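import Cfsg.Agent.H0.TCON0.D
set_option maxRecDepth 100000
namespace H0.TCON0
open H0
theorem k12 : TC.chkRange C 828 69 = true := by decide +kernel
theorem k13 : TC.chkRange C 897 69 = true := by decide +kernel
theorem k14 : TC.chkRange C 966 69 = true := by decide +kernel
theorem k15 : TC.chkRange C 1035 69 = true := by decide +kernel
theorem k16 : TC.chkRange C 1104 69 = true := by decide +kernel
theorem k17 : TC.chkRange C 1173 69 = true := by decide +kernel
end H0.TCON0
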