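import Cfsg.Agent.H0.TCON0.D
set_option maxRecDepth 100000
namespace H0.TCON0
open H0
theorem k18 : TC.chkRange C 1242 69 = true := by decide +kernel
theorem k19 : TC.chkRange C 1311 69 = true := by decide +kernel
theorem k20 : TC.chkRange C 1380 69 = true := by decide +kernel
theorem k21 : TC.chkRange C 1449 69 = true := by decide +kernel
theorem k22 : TC.chkRange C 1518 69 = true := by decide +kernel
theorem k23 : TC.chkRange C 1587 69 = true := by decide +kernel
end H0.TCON0
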