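import Cfsg.Agent.H0.TCON0.D
set_option maxRecDepth 100000
namespace H0.TCON0
open H0
theorem k24 : TC.chkRange C 1656 69 = true := by decide +kernel
theorem k25 : TC.chkRange C 1725 69 = true := by decide +kernel
theorem k26 : TC.chkRange C 1794 69 = true := by decide +kernel
theorem k27 : TC.chkRange C 1863 69 = true := by decide +kernel
theorem k28 : TC.chkRange C 1932 69 = true := by decide +kernel
theorem k29 : TC.chkRange C 2001 69 = true := by decide +kernel
end H0.TCON0
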