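import Cfsg.Agent.H0.TCON0.D
set_option maxRecDepth 100000
namespace H0.TCON0
open H0
theorem k30 : TC.chkRange C 2070 69 = true := by decide +kernel
theorem k31 : TC.chkRange C 2139 69 = true := by decide +kernel
theorem k32 : TC.chkRange C 2208 69 = true := by decide +kernel
theorem k33 : TC.chkRange C 2277 69 = true := by decide +kernel
theorem k34 : TC.chkRange C 2346 69 = true := by decide +kernel
theorem k35 : TC.chkRange C 2415 69 = true := by decide +kernel
end H0.TCON0
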