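import Cfsg.Agent.H0.TCON0.D
set_option maxRecDepth 100000
namespace H0.TCON0
open H0
theorem k36 : TC.chkRange C 2484 69 = true := by decide +kernel
theorem k37 : TC.chkRange C 2553 69 = true := by decide +kernel
theorem k38 : TC.chkRange C 2622 69 = true := by decide +kernel
theorem k39 : TC.chkRange C 2691 69 = true := by decide +kernel
theorem k40 : TC.chkRange C 2760 69 = true := by decide +kernel
theorem k41 : TC.chkRange C 2829 69 = true := by decide +kernel
end H0.TCON0
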