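import Cfsg.Agent.H0.TCON0.D
set_option maxRecDepth 100000
namespace H0.TCON0
open H0
theorem k42 : TC.chkRange C 2898 69 = true := by decide +kernel
theorem k43 : TC.chkRange C 2967 69 = true := by decide +kernel
theorem k44 : TC.chkRange C 3036 38 = true := by decide +kernel
end H0.TCON0
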