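import Cfsg.Agent.H0.TCON0.K0
import Cfsg.Agent.H0.TCON0.K1
import Cfsg.Agent.H0.TCON0.K2
import Cfsg.Agent.H0.TCON0.K3
import Cfsg.Agent.H0.TCON0.K4
import Cfsg.Agent.H0.TCON0.K5
import Cfsg.Agent.H0.TCON0.K6
import Cfsg.Agent.H0.TCON0.K7
set_option maxRecDepth 100000
namespace H0.TCON0
open H0
theorem rows0 : ∀ c < (0 + 69) * 64, c < C.M → TC.chkRow C c = true :=
  TC.rows_step (TC.rows_zero C) k0
theorem rows1 : ∀ c < (69 + 69) * 64, c < C.M → TC.chkRow C c = true :=
  TC.rows_step (rows0) k1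
theorem rows2 : ∀ c < (138 + 69) * 64, c < C.M → TC.chkRow C c = true :=
  TC.rows_step (rows1) k2
theorem rows3 : ∀ c < (207 + 69) * 64, c < C.M → TC.chkRow C c = true :=
  TC.rows_step (rows2) k3
theorem rows4 : ∀ c < (276 + 69) * 64, c < C.M → TC.chkRow C c = true :=
  TC.rows_step (rows3) k4
theorem rows5 : ∀ c < (345 + 69) * 64, c < C.M → TC.chkRow C c = true :=
  TC.rows_step (rows4) k5
theorem rows6 : ∀ c < (414 + 69) * 64, c < C.M → TC.chkRow C c = true :=
  TC.rows_step (rows5) k6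
theorem rows7 : ∀ c < (483 + 69) * 64, c < C.M → TC.chkRow C c = true :=
  TC.rows_step (rows6) k7
theorem rows8 : ∀ c < (552 + 69) * 64, c < C.M → TC.chkRow C c = true :=
  TC.rows_step (rows7) k8
theorem rows9 : ∀ c < (621 + 69) * 64, c < C.M → TC.chkRow C c = true :=
  TC.rows_step (rows8) k9
theorem rows10 : ∀ c < (690 + 69) * 64, c < C.M → TC.chkRow C c = true :=
  TC.rows_step (rows9) k10
theorem rows11 : ∀ c < (759 + 69) * 64, c < C.M → TC.chkRow C c = true :=
  TC.rows_step (rows10) k11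
theorem rows12 : ∀ c < (828 + 69) * 64, c < C.M → TC.chkRow C c = true :=
  TC.rows_step (rows11) k12
theorem rows13 : ∀ c < (897 + 69) * 64, c < C.M → TC.chkRow C c = true :=
  TC.rows_step (rows12) k13
theorem rows14 : ∀ c < (966 + 69) * 64, c < C.M → TC.chkRow C c = true :=
  TC.rows_step (rows13) k14
theorem rows15 : ∀ c < (1035 + 69) * 64, c < C.M → TC.chkRow C c = true :=
  TC.rows_step (rows14) k15
theorem rows16 : ∀ c < (1104 + 69) * 64, c < C.M → TC.chkRow C c = true :=
  TC.rows_step (rows15) k16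
theorem rows17 : ∀ c < (1173 + 69) * 64, c < C.M → TC.chkRow C c = true :=
  TC.rows_step (rows16) k17
theorem rows18 : ∀ c < (1242 + 69) * 64, c < C.M → TC.chkRow C c = true :=
  TC.rows_step (rows17) k18
theorem rows19 : ∀ c < (1311 + 69) * 64, c < C.M → TC.chkRow C c = true :=
  TC.rows_step (rows18) k19
theorem rows20 : ∀ c < (1380 + 69) * 64, c < C.M → TC.chkRow C c = true :=
  TC.rows_step (rows19) k20
theorem rows21 : ∀ c < (1449 + 69) * 64, c < C.M → TC.chkRow C c = true :=
  TC.rows_step (rows20) k21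
theorem rows22 : ∀ c < (1518 + 69) * 64, c < C.M → TC.chkRow C c = true :=
  TC.rows_step (rows21) k22
theorem rows23 : ∀ c < (1587 + 69) * 64, c < C.M → TC.chkRow C c = true :=
  TC.rows_step (rows22) k23
theorem rows24 : ∀ c < (1656 + 69) * 64, c < C.M → TC.chkRow C c = true :=
  TC.rows_step (rows23) k24
theorem rows25 : ∀ c < (1725 + 69) * 64, c < C.M → TC.chkRow C c = true :=
  TC.rows_step (rows24) k25
theorem rows26 : ∀ c < (1794 + 69) * 64, c < C.M → TC.chkRow C c = true :=
  TC.rows_step (rows25) k26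
theorem rows27 : ∀ c < (1863 + 69) * 64, c < C.M → TC.chkRow C c = true :=
  TC.rows_step (rows26) k27
theorem rows28 : ∀ c < (1932 + 69) * 64, c < C.M → TC.chkRow C c = true :=
  TC.rows_step (rows27) k28
theorem rows29 : ∀ c < (2001 + 69) * 64, c < C.M → TC.chkRow C c = true :=
  TC.rows_step (rows28) k29
theorem rows30 : ∀ c < (2070 + 69) * 64, c < C.M → TC.chkRow C c = true :=
  TC.rows_step (rows29) k30
theorem rows31 : ∀ c < (2139 + 69) * 64, c < C.M → TC.chkRow C c = true :=
  TC.rows_step (rows30) k31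
theorem rows32 : ∀ c < (2208 + 69) * 64, c < C.M → TC.chkRow C c = true :=
  TC.rows_step (rows31) k32
theorem rows33 : ∀ c < (2277 + 69) * 64, c < C.M → TC.chkRow C c = true :=
  TC.rows_step (rows32) k33
theorem rows34 : ∀ c < (2346 + 69) * 64, c < C.M → TC.chkRow C c = true :=
  TC.rows_step (rows33) k34
theorem rows35 : ∀ c < (2415 + 69) * 64, c < C.M → TC.chkRow C c = true :=
  TC.rows_step (rows34) k35
theorem rows36 : ∀ c < (2484 + 69) * 64, c < C.M → TC.chkRow C c = true :=
  TC.rows_step (rows35) k36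
theorem rows37 : ∀ c < (2553 + 69) * 64, c < C.M → TC.chkRow C c = true :=
  TC.rows_step (rows36) k37
theorem rows38 : ∀ c < (2622 + 69) * 64, c < C.M → TC.chkRow C c = true :=
  TC.rows_step (rows37) k38
theorem rows39 : ∀ c < (2691 + 69) * 64, c < C.M → TC.chkRow C c = true :=
  TC.rows_step (rows38) k39
theorem rows40 : ∀ c < (2760 + 69) * 64, c < C.M → TC.chkRow C c = true :=
  TC.rows_step (rows39) k40
theorem rows41 : ∀ c < (2829 + 69) * 64, c < C.M → TC.chkRow C c = true :=
  TC.rows_step (rows40) k41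
theorem rows42 : ∀ c < (2898 + 69) * 64, c < C.M → TC.chkRow C c = true :=
  TC.rows_step (rows41) k42
theorem rows43 : ∀ c < (2967 + 69) * 64, c < C.M → TC.chkRow C c = true :=
  TC.rows_step (rows42) k43
theorem rows44 : ∀ c < (3036 + 38) * 64, c < C.M → TC.chkRow C c = true :=
  TC.rows_step (rows43) k44
theorem main {G : Type*} [Group G] (g : ℕ → G) (hB : ∀ r ∈ B, ev g r = 1) (H : Subgroup G)
    (hH : ∀ w ∈ subs, ev g w ∈ H) :
    H.relIndex (Subgroup.closure (g '' {x | x < 8})) ≠ 0 ∧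
      H.relIndex (Subgroup.closure (g '' {x | x < 8})) ≤ 122760 :=
  TC.index_le C B subs ex inv hl tR.hint rfl (by decide +kernel) (by decide +kernel)
    (TC.rows_done rows44 (by decide +kernel)) g hB H hH
end H0.TCON0
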