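import Cfsg.Agent.H0.TCON0.D0
import Cfsg.Agent.H0.TCON0.D1
import Cfsg.Agent.H0.TCON0.D2
import Cfsg.Agent.H0.TCON0.D3
import Cfsg.Agent.H0.TCON0.D4
set_option maxRecDepth 100000
namespace H0.TCON0
open H0
noncomputable def tS : Tr := (.node (.node (.node (.node (.node (.node s0 s1) (.node s2 s3)) (.node (.node s4 s5) (.node s6 s7))) (.node (.node (.node s8 s9) (.node s10 s11)) (.node (.node s12 s13) (.node s14 s15)))) (.node (.node (.node (.node s16 s17) (.node s18 s19)) (.node (.node s20 s21) (.node s22 s23))) (.node (.node (.node s24 s25) (.node s26 s27)) (.node (.node s28 s29) (.node s30 s31))))) (.node (.node (.node (.node (.node s32 s33) (.node s34 s35)) (.node (.node s36 s37) (.node s38 s39))) (.node (.node (.node s40 s41) (.node s42 s43)) (.node (.node s44 s45) (.node s46 s47)))) (.node (.node (.node (.node s48 s49) (.node s50 s51)) (.node (.node s52 s53) (.node s54 s55))) (.node (.node (.node s56 s57) (.node s58 s59)) (.node (.node s60 s61) (.node s62 s63))))))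
noncomputable def tJ : Tr := (.node (.node (.node (.node (.node (.node j0 j1) (.node j2 j3)) (.node (.node j4 j5) (.node j6 j7))) (.node (.node (.node j8 j9) (.node j10 j11)) (.node (.node j12 j13) (.node j14 j15)))) (.node (.node (.node (.node j16 j17) (.node j18 j19)) (.node (.node j20 j21) (.node j22 j23))) (.node (.node (.node j24 j25) (.node j26 j27)) (.node (.node j28 j29) (.node j30 j31))))) (.node (.node (.node (.node (.node j32 j33) (.node j34 j35)) (.node (.node j36 j37) (.node j38 j39))) (.node (.node (.node j40 j41) (.node j42 j43)) (.node (.node j44 j45) (.node j46 j47)))) (.node (.node (.node (.node j48 j49) (.node j50 j51)) (.node (.node j52 j53) (.node j54 j55))) (.node (.node (.node j56 j57) (.node j58 j59)) (.node (.node j60 j61) (.node j62 j63))))))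
noncomputable def tQ : Tr := (.node (.node (.node (.node (.node (.node q0 q1) (.node q2 q3)) (.node (.node q4 q5) (.node q6 q7))) (.node (.node (.node q8 q9) (.node q10 q11)) (.node (.node q12 q13) (.node q14 q15)))) (.node (.node (.node (.node q16 q17) (.node q18 q19)) (.node (.node q20 q21) (.node q22 q23))) (.node (.node (.node q24 q25) (.node q26 q27)) (.node (.node q28 q29) (.node q30 q31))))) (.node (.node (.node (.node (.node q32 q33) (.node q34 q35)) (.node (.node q36 q37) (.node q38 q39))) (.node (.node (.node q40 q41) (.node q42 q43)) (.node (.node q44 q45) (.node q46 q47)))) (.node (.node (.node (.node q48 q49) (.node q50 q51)) (.node (.node q52 q53) (.node q54 q55))) (.node (.node (.node q56 q57) (.node q58 q59)) (.node (.node q60 q61) (.node q62 q63))))))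
noncomputable def tR : TC.WTr := (.node (.node r0 r1) (.node r2 r3))
def hl : List ℕ := [2, 3, 4, 5, 6, 7]
def B : List (List ℕ) := [[0, 1], [1, 0], [2, 2], [3, 3], [4, 4], [5, 5], [6, 6], [7, 7], [2, 3, 2, 3, 2, 3], [2, 4, 2, 4], [2, 5, 2, 5], [2, 6, 2, 6], [2, 7, 2, 7], [3, 4, 3, 4, 3, 4], [3, 5, 3, 5], [3, 6, 3, 6], [3, 7, 3, 7], [4, 5, 4, 5, 4, 5, 4, 5, 4, 5, 4, 5, 4, 5, 4, 5], [4, 6, 4, 6], [4, 7, 4, 7], [5, 6, 5, 6, 5, 6], [5, 7, 5, 7], [6, 7, 6, 7, 6, 7], [2, 7, 1, 1], [2, 7, 5, 4, 5, 4, 5, 4, 5, 4], [4, 1, 5, 1, 5, 4, 5, 0, 5, 0], [5, 1, 4, 1, 4, 5, 4, 0, 4, 0], [3, 4, 5, 0, 3, 4, 5, 0, 3, 4, 5, 0, 3, 4, 5, 0, 3, 4, 5, 0], [0, 3, 4, 0, 4, 3, 0, 3, 4, 0, 4], [0, 6, 5, 0, 5, 6, 0, 6, 5, 0, 5]]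
def subs : List (List ℕ) := [[2], [3], [4], [5], [6], [7]]
def ex : List (List ℕ) := []
def inv (x : ℕ) : ℕ := [1, 0, 2, 3, 4, 5, 6, 7].getD x 0
noncomputable def rS : ℕ → ℕ := rowOf tS (nat_lit 6) (nat_lit 63) (nat_lit 252) (nat_lit 7237005577332262213973186563042994240829374041602535252466099000494570602495)
noncomputable def rJ : ℕ → ℕ := rowOf tJ (nat_lit 6) (nat_lit 63) (nat_lit 80) (nat_lit 1208925819614629174706175)
noncomputable def C : TC.Cfg where
  S := look rS (nat_lit 28) (nat_lit 268435455)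
  J := look rJ (nat_lit 8) (nat_lit 255)
  Q := lookQ tQ (nat_lit 6) (nat_lit 26) (nat_lit 67108863)
  R := tR.get
  hl := fun x => hl.contains x
  n := (nat_lit 122760)
  M := (nat_lit 196734)
  top := (nat_lit 144402756)
  nl := (nat_lit 8)
  need := (nat_lit 8)
  nr := (nat_lit 30)
end H0.TCON0
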