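import Cfsg.Agent.H0.TCON0.D
set_option maxRecDepth 100000
namespace H0.TCON0
open H0
theorem k0 : TC.chkRange C 0 69 = true := by decide +kernel
theorem k1 : TC.chkRange C 69 69 = true := by decide +kernel
theorem k2 : TC.chkRange C 138 69 = true := by decide +kernel
theorem k3 : TC.chkRange C 207 69 = true := by decide +kernel
theorem k4 : TC.chkRange C 276 69 = true := by decide +kernel
theorem k5 : TC.chkRange C 345 69 = true := by decide +kernel
end H0.TCON0
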